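import Cfsg.Agent.H672.Over
import Cfsg.Agent.S1489
import Cfsg.Agent.CharactersDeep.IndFun
import Cfsg.Agent.CharactersDeep.NormalInd
import Cfsg.Agent.Prune
set_option linter.all false
prune_inst 0x7f00000000000000000000000000000000000000000000000000000000000000000000000000000000000000000000000000000000000000000000000000000000000000000000000000000000000000003fffffffffffffffffffffffffffbeffbdfbfeffff
open scoped Cfsg.Agent.FastGrp

/-!
# Induction from the inertia group
-/

set_option autoImplicit false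
set_option linter.unusedSectionVars false

namespace Cfsg.Agent.H525.L2

open Cfsg
open scoped ComplexConjugate
open Cfsg.Agent.Characters.Core

universe u

theorem over_ind {X : Type u} [Group X] [Fintype X] (M : Subgroup X) [hM : M.Normal] [Fintype M]
    {θ : M → ℂ} (hθ : IsIrrCharacter M θ) (T : Subgroup X) [Fintype T]
    (hT : ∀ g : X, g ∈ T ↔ ∀ n : M, θ ⟨g * n * g⁻¹, hM.conj_mem (n : X) n.2 g⟩ = θ n)
    (hMT : M ≤ T) {ψ : T → ℂ} (hψ : IsIrrCharacter T ψ) {b : ℕ} (hb : b ≠ 0)
    (h : ∀ m : M, ψ ⟨m, hMT m.2⟩ = b * θ m) :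
    IsIrrCharacter X (indFun T ψ) ∧ indFun T ψ 1 = T.index * ψ 1 ∧
      classInner (fun m : M => indFun T ψ m) θ ≠ 0 := by
  classical
  have hb' : (b : ℂ) ≠ 0 := Nat.cast_ne_zero.2 hb
  refine ⟨?_, Cfsg.Agent.CharactersDeep.NormalInd.indFun_one T ψ, ?_⟩
  · have hc : classInner (indFun (M.subgroupOf T) (fun x => θ ⟨(x : T), Subgroup.mem_subgroupOf.mp x.2⟩))
        ψ ≠ 0 := by
      rw [Cfsg.Agent.CharactersDeep.IndFun.classInner_indFun _ _ _ (isIrr_isClassFunction hψ)]
      let e : M.subgroupOf T ≃* M := Subgroup.subgroupOfEquivOfLe hMT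
      have h1 : (fun x : M.subgroupOf T => ψ x) =
          (b : ℂ) • (fun x : M.subgroupOf T => θ ⟨(x : T), Subgroup.mem_subgroupOf.mp x.2⟩) := by
        funext x
        exact h ⟨(x : T), Subgroup.mem_subgroupOf.mp x.2⟩
      have h2 : IsIrrCharacter (M.subgroupOf T)
          (fun x : M.subgroupOf T => θ ⟨(x : T), Subgroup.mem_subgroupOf.mp x.2⟩) :=
        isIrr_comp e.toMonoidHom e.surjective hθ
      rw [h1, classInner_smul_right, classInner_irr_self h2, mul_one]
      exact (map_ne_zero _).2 hb'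
    exact (Cfsg.Agent.S1489.result M T θ hθ hT hMT ψ ψ hψ hψ hc hc).1
  · -- the restriction to `M`
    have hres : (fun m : M => indFun T ψ m) =
        ((Nat.card T : ℂ)⁻¹ * (b : ℂ)) •
          (∑ x : X, (θ ∘ (MulAut.conjNormal x⁻¹ : MulAut M) : M → ℂ) : M → ℂ) := by
      funext m
      rw [indFun_apply, Pi.smul_apply, Finset.sum_apply, smul_eq_mul, mul_assoc]
      congr 1
      rw [Finset.mul_sum]
      refine Finset.sum_congr rfl fun x _ => ?_
      have hmem : x⁻¹ * (m : X) * x ∈ M := by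
        have := hM.conj_mem (m : X) m.2 x⁻¹
        rwa [inv_inv] at this
      rw [extendByZero_of_mem T ψ (hMT hmem)]
      rw [show (⟨x⁻¹ * (m : X) * x, hMT hmem⟩ : T) = ⟨((⟨x⁻¹ * (m : X) * x, hmem⟩ : M) : X),
        hMT hmem⟩ from rfl, h]
      congr 1
      show θ _ = θ _
      congr 1
      apply Subtype.ext
      show x⁻¹ * (m : X) * x = x⁻¹ * m * x⁻¹⁻¹
      rw [inv_inv]
    rw [hres, classInner_smul_left, classInner_sum_left]
    have hTc : (Nat.card T : ℂ) ≠ 0 := card_ne_zero_complex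
    refine mul_ne_zero (mul_ne_zero (inv_ne_zero hTc) hb') ?_
    have h1 : ∀ x : X, classInner (θ ∘ (MulAut.conjNormal x⁻¹ : MulAut M)) θ =
        if θ ∘ (MulAut.conjNormal x⁻¹ : MulAut M) = θ then 1 else 0 := by
      intro x
      exact classInner_irr (isIrr_comp (MulAut.conjNormal x⁻¹ : MulAut M).toMonoidHom
        (MulAut.conjNormal x⁻¹ : MulAut M).surjective hθ) hθ
    rw [Finset.sum_congr rfl fun x _ => h1 x, Finset.sum_ite, Finset.sum_const_zero, add_zero,
      Finset.sum_const, nsmul_eq_mul, mul_one]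
    refine Nat.cast_ne_zero.2 (Finset.card_ne_zero.2 ⟨1, ?_⟩)
    rw [Finset.mem_filter]
    refine ⟨Finset.mem_univ _, ?_⟩
    rw [inv_one, map_one]
    rfl

end Cfsg.Agent.H525.L2
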